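import Mathlib.Algebra.Homology.Double
import Mathlib.Algebra.Homology.HomologySequence
import Mathlib.Algebra.Homology.HomologicalComplexLimits
import Mathlib.Algebra.Homology.HomologicalComplexAbelian
import Mathlib.Algebra.Homology.QuasiIso
import Mathlib.CategoryTheory.Functor.OfSequence
import Mathlib.CategoryTheory.Limits.Constructions.EventuallyConstant
import Mathlib.Data.ENat.Basic

/-! Replacing a complex by a quasi-isomorphic complex with terms of dimension zero. -/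

set_option autoImplicit false
universe v u

open CategoryTheory CategoryTheory.Limits ZeroObject
open HomologicalComplex

namespace GrothLib.DimRed19

variable {A : Type u} [Category.{v} A] [Abelian A]

theorem rel (n : ℤ) : (ComplexShape.up ℤ).Rel n (n + 1) := rfl

/-- The disc complex. -/
noncomputable abbrev disc (X : A) (n : ℤ) : CochainComplex A ℤ := double (𝟙 X) (rel n)

theorem exactAt_disc (X : A) (n k : ℤ) : (disc X n).ExactAt k := by
  have hd : IsIso ((disc X n).d n (n + 1)) := by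
    rw [double_d _ _ (by omega)]; infer_instance
  by_cases h₀ : k = n
  · subst h₀
    rw [exactAt_iff' _ (k - 1) k (k + 1) (by simp) (by simp)]
    have : Mono ((disc X k).sc' (k - 1) k (k + 1)).g := inferInstanceAs (Mono ((disc X k).d k (k + 1)))
    exact (ShortComplex.exact_iff_mono _ ((isZero_double_X (𝟙 X) (rel k) (k - 1) (by omega) (by omega)).eq_of_src _ _)).2 this
  by_cases h₁ : k = n + 1
  · subst h₁
    rw [exactAt_iff' _ n (n + 1) (n + 1 + 1) (by simp) (by simp)]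
    have : Epi ((disc X n).sc' n (n + 1) (n + 1 + 1)).f := inferInstanceAs (Epi ((disc X n).d n (n + 1)))
    exact (ShortComplex.exact_iff_epi _ ((isZero_double_X (𝟙 X) (rel n) (n + 1 + 1) (by omega) (by omega)).eq_of_tgt _ _)).2 this
  exact ShortComplex.exact_of_isZero_X₂ _ (isZero_double_X (𝟙 X) (rel n) k h₀ h₁)

/-- Maps from a disc. -/
noncomputable def discDesc {X : A} {n : ℤ} {K : CochainComplex A ℤ} (a : X ⟶ K.X n) : disc X n ⟶ K :=
  mkHomFromDouble (rel n) (by omega) a (a ≫ K.d n (n + 1)) (by simp) (by simp)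

/-- The inclusion of discs. -/
noncomputable def discMap {X Y : A} (g : X ⟶ Y) (n : ℤ) : disc X n ⟶ disc Y n :=
  discDesc (g ≫ (doubleXIso₀ (𝟙 Y) (rel n)).inv)

variable (d : A → ℕ∞) (hiso : ∀ ⦃X Y : A⦄, Nonempty (X ≅ Y) → d X = d Y)
  (h2 : ∀ X Y : A, d (X ⊞ Y) ≤ max (d X) (d Y))
  (h3 : ∀ S : ShortComplex A, S.ShortExact → d S.X₃ ≤ max (d S.X₁ - 1) (d S.X₂))

include hiso h2 h3 in
/-- One modification in degree `n`. -/
theorem exists_step (K : CochainComplex A ℤ) (n : ℤ) {Y : A} (ι : K.X n ⟶ Y) [Mono ι] (hY : d Y = 0) :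
    ∃ (K' : CochainComplex A ℤ) (φ : K ⟶ K'), QuasiIso φ ∧ (∀ i, i ≠ n → i ≠ n + 1 → IsIso (φ.f i)) ∧
      d (K'.X n) = 0 ∧ d (K'.X (n + 1)) ≤ max (d (K.X n) - 1) (d (K.X (n + 1))) := by
  let D := disc (K.X n) n
  let E := disc Y n
  let m : D ⟶ K ⊞ E := biprod.lift (discDesc (𝟙 _)) (discMap ι n)
  have hE0 : (discMap ι n).f n = (doubleXIso₀ (𝟙 (K.X n)) (rel n)).hom ≫ ι ≫ (doubleXIso₀ (𝟙 Y) (rel n)).inv :=
    by rw [discMap, discDesc, mkHomFromDouble_f₀]
  have hmE : Mono (discMap ι n) := by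
    refine @HomologicalComplex.mono_of_mono_f _ _ _ _ _ _ _ (discMap ι n) fun i => ?_
    by_cases h₀ : i = n
    · subst h₀; rw [hE0]; infer_instance
    by_cases h₁ : i = n + 1
    · subst h₁
      have : IsIso ((disc Y n).d n (n + 1)) := by rw [double_d _ _ (by omega)]; infer_instance
      rw [discMap, discDesc, mkHomFromDouble_f₁]
      infer_instance
    exact ⟨fun _ _ _ => (isZero_double_X _ _ i h₀ h₁).eq_of_tgt _ _⟩
  have : Mono m := by
    have : Mono (m ≫ biprod.snd) := by rw [biprod.lift_snd]; exact hmE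
    exact mono_of_mono m biprod.snd
  let K' := cokernel m
  let π : K ⊞ E ⟶ K' := cokernel.π m
  let S : ShortComplex (CochainComplex A ℤ) := ShortComplex.mk m π (cokernel.condition m)
  have hS : S.ShortExact :=
    { exact := ShortComplex.exact_cokernel m
      mono_f := inferInstanceAs (Mono m)
      epi_g := inferInstanceAs (Epi (cokernel.π m)) }
  have hSi : ∀ i, (S.map (eval A (ComplexShape.up ℤ) i)).ShortExact := fun i => hS.map_of_exact _
  have hinl : ∀ i, IsIso (homologyMap (biprod.inl : K ⟶ K ⊞ E) i) := fun i => by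
    refine ⟨⟨homologyMap biprod.fst i, ?_, ?_⟩⟩
    · rw [← homologyMap_comp, biprod.inl_fst, homologyMap_id]
    · rw [← homologyMap_comp, ← homologyMap_id]
      conv_rhs => rw [← biprod.total, homologyMap_add, homologyMap_comp biprod.snd biprod.inr,
        ((exactAt_iff_isZero_homology _ _).1 (exactAt_disc Y n i)).eq_of_src
          (homologyMap (biprod.inr : E ⟶ K ⊞ E) i) 0, comp_zero, add_zero]
  have hπ : ∀ i, IsIso (homologyMap π i) := fun i => by
    have hz : ∀ k, IsZero (D.homology k) := fun k => (exactAt_iff_isZero_homology _ _).1 (exactAt_disc _ n k)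
    have : Mono (homologyMap π i) := (hS.homology_exact₂ i).mono_g ((hz i).eq_of_src _ _)
    have : Epi (homologyMap π i) :=
      (hS.homology_exact₃ i (i + 1) (by simp)).epi_f ((hz (i + 1)).eq_of_tgt _ _)
    exact isIso_of_mono_of_epi _
  refine ⟨K', biprod.inl ≫ π, ⟨fun i => ?_⟩, fun i h₀ h₁ => ?_, ?_, ?_⟩
  · rw [quasiIsoAt_iff_isIso_homologyMap, homologyMap_comp]
    have := hinl i; have := hπ i
    infer_instance
  · have hD : IsZero (D.X i) := isZero_double_X _ _ i h₀ h₁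
    have hE : IsZero (E.X i) := isZero_double_X _ _ i h₀ h₁
    have : Epi (π.f i) := (hSi i).epi_g
    have : Mono (π.f i) := (hSi i).exact.mono_g (hD.eq_of_src _ _)
    have : IsIso (π.f i) := isIso_of_mono_of_epi _
    have : IsIso ((biprod.inl : K ⟶ K ⊞ E).f i) := by
      refine ⟨⟨(biprod.fst : K ⊞ E ⟶ K).f i, ?_, ?_⟩⟩
      · rw [← comp_f, biprod.inl_fst]; rfl
      · rw [← comp_f, ← id_f]
        conv_rhs => rw [← biprod.total, add_f_apply, comp_f (biprod.snd : K ⊞ E ⟶ E),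
          hE.eq_of_src ((biprod.inr : E ⟶ K ⊞ E).f i) 0, comp_zero, add_zero]
    rw [comp_f]; infer_instance
  · let u : E.X n ⟶ K'.X n := (biprod.inr : E ⟶ K ⊞ E).f n ≫ π.f n
    have hf : (discDesc (𝟙 (K.X n))).f n = (doubleXIso₀ (𝟙 (K.X n)) (rel n)).hom := by
      rw [discDesc, mkHomFromDouble_f₀, Category.comp_id]
    have hm : m.f n ≫ (biprod.fst : K ⊞ E ⟶ K).f n = (doubleXIso₀ (𝟙 (K.X n)) (rel n)).hom := by
      rw [← comp_f, biprod.lift_fst, hf]
    have hm' : m.f n ≫ (biprod.snd : K ⊞ E ⟶ E).f n = (discMap ι n).f n := by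
      rw [← comp_f, biprod.lift_snd]
    have hdec : 𝟙 ((K ⊞ E).X n) = (biprod.fst : K ⊞ E ⟶ K).f n ≫ (biprod.inl : K ⟶ K ⊞ E).f n +
        (biprod.snd : K ⊞ E ⟶ E).f n ≫ (biprod.inr : E ⟶ K ⊞ E).f n := by
      rw [← comp_f, ← comp_f, ← add_f_apply, biprod.total]; rfl
    have hinlπ : (biprod.inl : K ⟶ K ⊞ E).f n ≫ π.f n =
        -((doubleXIso₀ (𝟙 (K.X n)) (rel n)).inv ≫ (discMap ι n).f n ≫ u) := by
      rw [← cancel_epi (doubleXIso₀ (𝟙 (K.X n)) (rel n)).hom, Preadditive.comp_neg, Iso.hom_inv_id_assoc,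
        eq_neg_iff_add_eq_zero, ← hm, ← hm']
      have h0 : m.f n ≫ π.f n = 0 := by rw [← comp_f, cokernel.condition]; rfl
      rw [← h0]
      conv_rhs => rw [← Category.comp_id (m.f n), hdec]
      simp [u, Preadditive.add_comp, Preadditive.comp_add]
    have : Epi u := by
      refine Preadditive.epi_of_cancel_zero _ fun {Z} k hk => ?_
      have : Epi (π.f n) := (hSi n).epi_g
      rw [← cancel_epi (π.f n), comp_zero, ← Category.id_comp (π.f n), hdec, Preadditive.add_comp,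
        Preadditive.add_comp, Category.assoc, Category.assoc, Category.assoc, Category.assoc,
        reassoc_of% hinlπ, Preadditive.neg_comp, Category.assoc, Category.assoc, hk]
      simp only [u, Category.assoc] at hk
      simp [hk]
    have : Mono u := by
      refine Preadditive.mono_of_cancel_zero _ fun {Z} y hy => ?_
      have := (hSi n).mono_f
      obtain ⟨z, hz⟩ : ∃ z : Z ⟶ D.X n, z ≫ m.f n = y ≫ (biprod.inr : E ⟶ K ⊞ E).f n := by
        have h0 : (y ≫ (biprod.inr : E ⟶ K ⊞ E).f n) ≫ (S.map (eval A (ComplexShape.up ℤ) n)).g = 0 :=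
          (Category.assoc _ _ _).trans hy
        exact ⟨(hSi n).exact.lift _ h0, (hSi n).exact.lift_f _ h0⟩
      have h1 : z = 0 := by
        rw [← cancel_mono (doubleXIso₀ (𝟙 (K.X n)) (rel n)).hom, zero_comp, ← hm, ← Category.assoc, hz,
          Category.assoc, ← comp_f, biprod.inr_fst, zero_f, comp_zero]
      have h2' := congrArg (· ≫ (biprod.snd : K ⊞ E ⟶ E).f n) hz
      rw [h1, zero_comp, zero_comp] at h2'
      simpa [← comp_f] using h2'.symm
    have : IsIso u := isIso_of_mono_of_epi _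
    rw [← hY]
    exact hiso ⟨(asIso u).symm ≪≫ doubleXIso₀ (𝟙 Y) (rel n)⟩
  · have : PreservesBinaryBiproducts (eval A (ComplexShape.up ℤ) (n + 1)) :=
      preservesBinaryBiproducts_of_preservesBiproducts _
    refine le_trans (h3 _ (hSi (n + 1))) (max_le (le_max_of_le_left ?_) ?_)
    · exact le_of_eq (congrArg (fun t => t - 1) (hiso ⟨doubleXIso₁ (𝟙 (K.X n)) (rel n) (by omega)⟩))
    · have e : d (((S.map (eval A (ComplexShape.up ℤ) (n + 1)))).X₂) = d (K.X (n + 1) ⊞ Y) :=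
        hiso ⟨(eval A (ComplexShape.up ℤ) (n + 1)).mapBiprod K E ≪≫
          biprod.mapIso (Iso.refl _) (doubleXIso₁ (𝟙 Y) (rel n) (by omega))⟩
      rw [e]
      exact (h2 _ _).trans (max_le (le_max_right _ _) (by rw [hY]; exact zero_le))

section Stable

variable (F : ℕ ⥤ CochainComplex A ℤ)

theorem hasColimit_of_stable (hst : ∀ i : ℤ, ∃ N, ∀ j, N ≤ j → IsIso ((F.map (homOfLE (Nat.le_succ j))).f i)) :
    HasColimit F ∧ ∀ (c : Cocone F), IsColimit c → ∀ i : ℤ, ∃ N, ∀ j, N ≤ j → IsIso ((c.ι.app j).f i) := by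
  have hev : ∀ i : ℤ, ∃ N : ℕ, (F ⋙ eval A (ComplexShape.up ℤ) i).IsEventuallyConstantFrom N := by
    intro i
    obtain ⟨N, hN⟩ := hst i
    refine ⟨N, fun j φ => ?_⟩
    obtain ⟨k, rfl⟩ := Nat.exists_eq_add_of_le (leOfHom φ)
    induction k with
    | zero => rw [show φ = 𝟙 N from Subsingleton.elim _ _, CategoryTheory.Functor.map_id]; infer_instance
    | succ k ih =>
      rw [show φ = homOfLE (Nat.le_add_right N k) ≫ homOfLE (Nat.le_succ (N + k)) from Subsingleton.elim _ _,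
        Functor.map_comp]
      have := ih (homOfLE (Nat.le_add_right N k))
      have : IsIso ((F ⋙ eval A (ComplexShape.up ℤ) i).map (homOfLE (Nat.le_succ (N + k)))) :=
        hN (N + k) (Nat.le_add_right N k)
      infer_instance
  have : ∀ i : ℤ, HasColimit (F ⋙ eval A (ComplexShape.up ℤ) i) := fun i =>
    (hev i).choose_spec.hasColimit
  refine ⟨inferInstance, fun c hc i => ?_⟩
  obtain ⟨N, hN⟩ := hev i
  refine ⟨N, fun j hj => ?_⟩
  exact hN.isIso_ι_of_isColimit' (isColimitOfPreserves (eval A (ComplexShape.up ℤ) i) hc) j (homOfLE hj)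

theorem exists_limit_of_stable (hst : ∀ i : ℤ, ∃ N, ∀ j, N ≤ j → IsIso ((F.map (homOfLE (Nat.le_succ j))).f i))
    (hq : ∀ j, QuasiIso (F.map (homOfLE (Nat.le_succ j)))) :
    ∃ (L : CochainComplex A ℤ) (f : F.obj 0 ⟶ L), QuasiIso f ∧
      ∀ i : ℤ, ∃ N, ∀ j, N ≤ j → Nonempty ((F.obj j).X i ≅ L.X i) := by
  obtain ⟨hc, hι⟩ := hasColimit_of_stable F hst
  have hs := hι _ (colimit.isColimit F)
  refine ⟨colimit F, colimit.ι F 0, ⟨fun i => ?_⟩, fun i => ?_⟩
  · obtain ⟨N₁, h₁⟩ := hs (i - 1)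
    obtain ⟨N₂, h₂⟩ := hs i
    obtain ⟨N₃, h₃⟩ := hs (i + 1)
    obtain ⟨M, hM₁, hM₂, hM₃⟩ : ∃ M, N₁ ≤ M ∧ N₂ ≤ M ∧ N₃ ≤ M :=
      ⟨max N₁ (max N₂ N₃), le_max_left _ _, le_max_of_le_right (le_max_left _ _),
        le_max_of_le_right (le_max_right _ _)⟩
    have hq' : ∀ k, QuasiIso (F.map (homOfLE (Nat.zero_le k))) := by
      intro k
      induction k with
      | zero =>
        rw [show (homOfLE (Nat.zero_le 0) : (0 : ℕ) ⟶ 0) = 𝟙 0 from Subsingleton.elim _ _,
          CategoryTheory.Functor.map_id]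
        infer_instance
      | succ k ih =>
        rw [show homOfLE (Nat.zero_le (k + 1)) = homOfLE (Nat.zero_le k) ≫ homOfLE (Nat.le_succ k) from
          Subsingleton.elim _ _, Functor.map_comp]
        have := hq k
        infer_instance
    have : QuasiIsoAt (colimit.ι F M) i := by
      rw [quasiIsoAt_iff' _ (i - 1) i (i + 1) (by simp) (by simp), ShortComplex.quasiIso_iff]
      have : IsIso (((shortComplexFunctor' A (ComplexShape.up ℤ) (i - 1) i (i + 1)).map (colimit.ι F M))) := by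
        have : IsIso ((colimit.ι F M).f (i - 1)) := h₁ M hM₁
        have : IsIso ((colimit.ι F M).f i) := h₂ M hM₂
        have : IsIso ((colimit.ι F M).f (i + 1)) := h₃ M hM₃
        rw [ShortComplex.isIso_iff]
        exact ⟨‹_›, ‹_›, ‹_›⟩
      infer_instance
    have := hq' M
    rw [← colimit.w F (homOfLE (Nat.zero_le M))]
    infer_instance
  · obtain ⟨N, hN⟩ := hs i
    exact ⟨N, fun j hj => ⟨@asIso _ _ _ _ ((colimit.ι F j).f i) (hN j hj)⟩⟩

end Stable

variable (h1 : ∀ X : A, ∃ (Y : A) (ι : X ⟶ Y), Mono ι ∧ d Y = 0)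

include hiso h1 h2 h3 in
theorem exists_modify (K : CochainComplex A ℤ) (n : ℤ) :
    ∃ (K' : CochainComplex A ℤ) (φ : K ⟶ K'), QuasiIso φ ∧ (∀ i, i ≠ n → i ≠ n + 1 → IsIso (φ.f i)) ∧
      d (K'.X n) = 0 ∧ d (K'.X (n + 1)) ≤ max (d (K.X n) - 1) (d (K.X (n + 1))) := by
  obtain ⟨Y, ι, hι, hY⟩ := h1 (K.X n)
  exact exists_step d hiso h2 h3 K n ι hY

include hiso h1 h2 h3 in
theorem exists_sweep (k : ℕ) : ∀ (K : CochainComplex A ℤ) (n : ℤ), (∀ i, n < i → d (K.X i) = 0) → d (K.X n) ≤ k →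
    ∃ (K' : CochainComplex A ℤ) (φ : K ⟶ K'), QuasiIso φ ∧ (∀ i, i < n ∨ n + k < i → IsIso (φ.f i)) ∧
      ∀ i, n ≤ i → d (K'.X i) = 0 := by
  induction k with
  | zero =>
    intro K n h hn
    refine ⟨K, 𝟙 K, inferInstance, fun i _ => by rw [id_f]; infer_instance, fun i hi => ?_⟩
    rcases hi.eq_or_lt with rfl | hi
    · exact nonpos_iff_eq_zero.1 (by simpa using hn)
    · exact h i hi
  | succ k ih =>
    intro K n h hn
    obtain ⟨K₁, φ, hφ, hφi, h0, hle⟩ := exists_modify d hiso h2 h3 h1 K n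
    have hne : ∀ i, i ≠ n → i ≠ n + 1 → d (K₁.X i) = d (K.X i) := fun i a b => by
      have := hφi i a b
      exact (hiso ⟨asIso (φ.f i)⟩).symm
    obtain ⟨K₂, ψ, hψ, hψi, hz⟩ := ih K₁ (n + 1) (fun i hi => by rw [hne i (by omega) (by omega)]; exact h i (by omega))
      (hle.trans (max_le (tsub_le_iff_right.2 (by simpa using hn)) (by rw [h (n + 1) (by omega)]; exact zero_le)))
    refine ⟨K₂, φ ≫ ψ, inferInstance, fun i hi => ?_, fun i hi => ?_⟩
    · have := hφi i (by omega) (by omega)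
      have := hψi i (by omega)
      rw [comp_f]; infer_instance
    · rcases hi.eq_or_lt with rfl | hi
      · have := hψi n (by omega)
        rw [← h0]
        exact (hiso ⟨asIso (ψ.f n)⟩).symm
      · exact hz i hi

variable (K : CochainComplex A ℤ) (hfin : ∀ n : ℤ, d (K.X n) ≠ ⊤)

/-- A stage of the treatment of nonnegative degrees. -/
structure Pos (j : ℕ) where
  /-- The complex. -/
  obj : CochainComplex A ℤ
  fin : ∀ i, d (obj.X i) ≠ ⊤
  zero : ∀ i : ℤ, 0 ≤ i → i < (j : ℤ) → d (obj.X i) = 0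
  same : ∀ i : ℤ, i < 0 → d (obj.X i) = d (K.X i)

include hiso h1 h2 h3 hfin in
theorem exists_nonneg :
    ∃ (L : CochainComplex A ℤ) (f : K ⟶ L), QuasiIso f ∧ (∀ i : ℤ, i < 0 → d (L.X i) = d (K.X i)) ∧
      ∀ i : ℤ, 0 ≤ i → d (L.X i) = 0 := by
  have step : ∀ j (S : Pos d K j), ∃ (S' : Pos d K (j + 1)) (φ : S.obj ⟶ S'.obj), QuasiIso φ ∧
      ∀ i : ℤ, i ≠ (j : ℤ) → i ≠ (j : ℤ) + 1 → IsIso (φ.f i) := by
    intro j S
    obtain ⟨K', φ, hφ, hφi, h0, hle⟩ := exists_modify d hiso h2 h3 h1 S.obj (j : ℤ)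
    have hne : ∀ i : ℤ, i ≠ (j : ℤ) → i ≠ (j : ℤ) + 1 → d (K'.X i) = d (S.obj.X i) := fun i a b => by
      have := hφi i a b
      exact (hiso ⟨asIso (φ.f i)⟩).symm
    refine ⟨⟨K', fun i => ?_, fun i hi hi' => ?_, fun i hi => ?_⟩, φ, hφ, hφi⟩
    · by_cases a : i = (j : ℤ)
      · subst a; rw [h0]; exact ENat.zero_ne_top
      by_cases b : i = (j : ℤ) + 1
      · subst b
        exact ne_top_of_le_ne_top (fun h => (max_choice _ _).elim
          (fun e => S.fin _ (top_le_iff.1 ((h ▸ e ▸ le_refl _ : (⊤ : ℕ∞) ≤ d (S.obj.X (j : ℤ)) - 1).trans tsub_le_self)))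
          (fun e => S.fin _ (e ▸ h))) hle
      rw [hne i a b]; exact S.fin i
    · by_cases a : i = (j : ℤ)
      · subst a; exact h0
      rw [hne i a (by omega)]; exact S.zero i hi (by omega)
    · rw [hne i (by omega) (by omega)]; exact S.same i hi
  choose next φ hφ hφi using step
  let st : ∀ j, Pos d K j := fun j =>
    Nat.rec ⟨K, hfin, fun i hi hi' => absurd hi' (by simpa using hi), fun _ _ => rfl⟩ (fun m S => next m S) j
  let F : ℕ ⥤ CochainComplex A ℤ := Functor.ofSequence (X := fun j => (st j).obj) fun j => φ j (st j)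
  have hmap : ∀ j, F.map (homOfLE (Nat.le_succ j)) = φ j (st j) := fun j => Functor.ofSequence_map_homOfLE_succ _ j
  obtain ⟨L, f, hf, hL⟩ := exists_limit_of_stable F
    (fun i => ⟨i.natAbs + 1, fun j hj => by rw [hmap]; exact hφi j (st j) i (by omega) (by omega)⟩)
    (fun j => by rw [hmap]; exact hφ j (st j))
  refine ⟨L, f, hf, fun i hi => ?_, fun i hi => ?_⟩
  · obtain ⟨N, hN⟩ := hL i
    rw [← (st N).same i hi]
    exact (hiso (hN N le_rfl)).symm
  · obtain ⟨N, hN⟩ := hL i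
    rw [← (st (max N (i.natAbs + 1))).zero i hi (by omega)]
    exact (hiso (hN _ (le_max_left _ _))).symm

/-- A stage of the treatment of negative degrees. -/
structure Neg (j : ℕ) where
  /-- The complex. -/
  obj : CochainComplex A ℤ
  zero : ∀ i : ℤ, -(j : ℤ) ≤ i → d (obj.X i) = 0
  same : ∀ i : ℤ, i < -(j : ℤ) → d (obj.X i) = d (K.X i)

variable (hK : ∀ m : ℤ, ∃ N : ℤ, ∀ n : ℤ, n ≤ N → ∃ k : ℕ, d (K.X n) = k ∧ n + k ≤ m)

include hiso h1 h2 h3 hfin hK in
theorem exists_dim_zero :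
    ∃ (L : CochainComplex A ℤ) (f : K ⟶ L), QuasiIso f ∧ ∀ n, d (L.X n) = 0 := by
  obtain ⟨L₀, f₀, hf₀, hneg, hpos⟩ := exists_nonneg d hiso h2 h3 h1 K hfin
  let kk : ℕ → ℕ := fun j => (ENat.ne_top_iff_exists.1 (hfin (-(j : ℤ) - 1))).choose
  have hkk : ∀ j : ℕ, (kk j : ℕ∞) = d (K.X (-(j : ℤ) - 1)) := fun j =>
    (ENat.ne_top_iff_exists.1 (hfin (-(j : ℤ) - 1))).choose_spec
  have step : ∀ j (S : Neg d K j), ∃ (S' : Neg d K (j + 1)) (φ : S.obj ⟶ S'.obj), QuasiIso φ ∧
      ∀ i : ℤ, i < -(j : ℤ) - 1 ∨ -(j : ℤ) - 1 + (kk j : ℤ) < i → IsIso (φ.f i) := by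
    intro j S
    obtain ⟨K', φ, hφ, hφi, hz⟩ := exists_sweep d hiso h2 h3 h1 (kk j) S.obj (-(j : ℤ) - 1)
      (fun i hi => S.zero i (by omega)) (by rw [S.same _ (by omega), hkk])
    refine ⟨⟨K', fun i hi => hz i (by omega), fun i hi => ?_⟩, φ, hφ, hφi⟩
    have := hφi i (by omega)
    rw [← S.same i (by omega)]
    exact (hiso ⟨asIso (φ.f i)⟩).symm
  choose next φ hφ hφi using step
  let st : ∀ j, Neg d K j := fun j =>
    Nat.rec ⟨L₀, fun i hi => hpos i (by simpa using hi), fun i hi => hneg i (by simpa using hi)⟩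
      (fun m S => next m S) j
  let F : ℕ ⥤ CochainComplex A ℤ := Functor.ofSequence (X := fun j => (st j).obj) fun j => φ j (st j)
  have hmap : ∀ j, F.map (homOfLE (Nat.le_succ j)) = φ j (st j) := fun j => Functor.ofSequence_map_homOfLE_succ _ j
  obtain ⟨L, f, hf, hL⟩ := exists_limit_of_stable F
    (fun i => by
      obtain ⟨N, hN⟩ := hK (i - 1)
      refine ⟨N.natAbs + 1, fun j hj => ?_⟩
      obtain ⟨k, hk, hki⟩ := hN (-(j : ℤ) - 1) (by omega)
      have : kk j = k := by exact_mod_cast (hkk j).trans hk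
      rw [hmap]; exact hφi j (st j) i (Or.inr (by omega)))
    (fun j => by rw [hmap]; exact hφ j (st j))
  refine ⟨L, f₀ ≫ f, @quasiIso_comp _ _ _ _ _ _ _ _ f₀ f _ _ _ hf₀ hf, fun i => ?_⟩
  obtain ⟨N, hN⟩ := hL i
  rw [← (st (max N i.natAbs)).zero i (by omega)]
  exact (hiso (hN _ (le_max_left _ _))).symm

end GrothLib.DimRed19
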